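import Groth.Agent.Wt.ExtendFinite
import Groth.Agent.RedSub.Basic
import Mathlib.RingTheory.AdjoinRoot
import Mathlib.AlgebraicGeometry.Morphisms.SchemeTheoreticallyDominant

/-!
# A finite surjective cover over which a finite surjective map has sections on every component
-/

set_option autoImplicit false
set_option linter.style.haveILetI false
universe u

open CategoryTheory Limits AlgebraicGeometry TopologicalSpace Polynomial

namespace Groth.Agent.Alter18360

/-- For a finite algebra there is a finite extension of the base with surjective spectrum through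
which every domain receives all its integral values. -/
theorem exists_splitting {A B : Type u} [CommRing A] [CommRing B] (φ : A →+* B) (hφ : φ.Finite) :
    ∃ (A' : Type u) (_ : CommRing A') (ε : A →+* A'), ε.Finite ∧
      Function.Surjective (PrimeSpectrum.comap ε) ∧
      ∀ (D E : Type u) [CommRing D] [CommRing E] [IsDomain E] (τ : D →+* E)
        (α : A' →+* D) (β : B →+* E), β.comp φ = τ.comp (α.comp ε) →
        ∀ b, β b ∈ τ.range := by
  classical
  rcases subsingleton_or_nontrivial A with hA | hA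
  · refine ⟨A, inferInstance, RingHom.id A, RingHom.Finite.id A, fun x => ⟨x, rfl⟩,
      fun D E _ _ _ τ α β _ b => ?_⟩
    have h : (0 : E) = 1 := by
      rw [← map_zero (τ.comp α), ← map_one (τ.comp α), Subsingleton.elim (0 : A) 1]
    exact absurd h zero_ne_one
  letI := φ.toAlgebra
  haveI : Module.Finite A B := hφ
  obtain ⟨gens, hgens⟩ := (Module.Finite.fg_top : (⊤ : Submodule A B).FG)
  choose P hPm hP using fun b : B => (Algebra.IsIntegral.isIntegral (R := A) b)
  have hprod : (∏ b ∈ gens, P b).Monic := monic_prod_of_monic _ _ fun b _ => hPm b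
  obtain ⟨A', _, _, _, _, _, hsplit⟩ := hprod.exists_splits_map
  refine ⟨A', inferInstance, algebraMap A A', RingHom.finite_algebraMap.2 inferInstance,
    PrimeSpectrum.comap_surjective_of_faithfullyFlat, fun D E _ _ _ τ α β h b => ?_⟩
  obtain ⟨m, hm⟩ := splits_iff_exists_multiset.1 hsplit
  rw [((hprod.map (algebraMap A A')).leadingCoeff), C_1, one_mul] at hm
  have hgen : ∀ x ∈ gens, β x ∈ τ.range := by
    intro x hx
    have h0 : (∏ b ∈ gens, P b).eval₂ (β.comp φ) (β x) = 0 := by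
      rw [← hom_eval₂, eval₂_finsetProd, Finset.prod_eq_zero hx
        (by exact hP x), map_zero]
    rw [h, ← RingHom.comp_assoc, ← eval₂_map, hm, eval₂_multiset_prod, Multiset.map_map,
      Multiset.prod_eq_zero_iff] at h0
    obtain ⟨r, -, hr⟩ := Multiset.mem_map.1 h0
    rw [Function.comp_apply, eval₂_sub, eval₂_X, eval₂_C, sub_eq_zero] at hr
    exact ⟨α r, hr.symm⟩
  have hb : b ∈ Submodule.span A (gens : Set B) := hgens ▸ Submodule.mem_top
  induction hb using Submodule.span_induction with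
  | mem x hx => exact hgen x hx
  | zero => rw [map_zero]; exact zero_mem _
  | add _ _ _ _ h h' => rw [map_add]; exact add_mem h h'
  | smul a x _ hx =>
    rw [Algebra.smul_def, map_mul, ← RingHom.comp_apply β, RingHom.algebraMap_toAlgebra, h]
    exact mul_mem ⟨_, rfl⟩ hx

variable {Y : Scheme.{u}}

/-- Finitely many finite surjective covers are dominated by one. -/
theorem exists_common [IsNoetherian Y] {J : Type u} (Z : J → Scheme.{u}) (π : ∀ j, Z j ⟶ Y)
    (hf : ∀ j, IsFinite (π j)) (hs : ∀ j, Surjective (π j)) (t : Finset J) :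
    ∃ (Y' : Scheme.{u}) (g : Y' ⟶ Y), IsFinite g ∧ Surjective g ∧
      ∀ j ∈ t, ∃ h : Y' ⟶ Z j, h ≫ π j = g := by
  classical
  induction t using Finset.induction_on with
  | empty => exact ⟨Y, 𝟙 Y, inferInstance, inferInstance, by simp⟩
  | insert j t _ ih =>
    obtain ⟨Y', g, _, _, h⟩ := ih
    haveI := hf j
    haveI := hs j
    refine ⟨pullback g (π j), pullback.fst g (π j) ≫ g, inferInstance, inferInstance,
      fun l hl => ?_⟩
    rcases Finset.mem_insert.1 hl with rfl | hl
    · exact ⟨pullback.snd g (π l), pullback.condition.symm⟩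
    · obtain ⟨a, ha⟩ := h l hl
      exact ⟨pullback.fst g (π j) ≫ a, by rw [Category.assoc, ha]⟩

variable {F F' G Z : Scheme.{u}}

/-- The closed immersion into the fibre product factors, over an affine open receiving the
splitting algebra, through a section. -/
theorem isIso_morphismRestrict [IsIntegral G] [IsIntegral Z] (s : F' ⟶ Y) [IsFinite s] (q : G ⟶ Y)
    [IsAffineHom q] (σ : Z ⟶ G) [IsFinite σ] [Surjective σ] (w : Z ⟶ F') (hw : w ≫ s = σ ≫ q)
    [IsClosedImmersion (pullback.lift w σ hw)] {V : Y.Opens} (hV : IsAffineOpen V)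
    {A' : CommRingCat.{u}} (ε : Γ(Y, V) ⟶ A')
    (hε : ∀ (D E : Type u) [CommRing D] [CommRing E] [IsDomain E] (τ : D →+* E)
        (α : A' →+* D) (β : Γ(F', s ⁻¹ᵁ V) →+* E),
        β.comp (s.app V).hom = τ.comp (α.comp ε.hom) → ∀ b, β b ∈ τ.range)
    (a : Spec Γ(G, q ⁻¹ᵁ V) ⟶ Spec A') (ha : a ≫ Spec.map ε = Spec.map (q.app V)) :
    IsIso (σ ∣_ (q ⁻¹ᵁ V)) := by
  let U := q ⁻¹ᵁ V
  have hU : IsAffineOpen U := hV.preimage q
  let U' := σ ⁻¹ᵁ U
  by_cases hne : Nonempty U'
  swap
  · haveI : IsEmpty ↥(Scheme.Opens.toScheme (σ ⁻¹ᵁ U)) := not_nonempty_iff.1 hne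
    haveI : IsEmpty ↥(Scheme.Opens.toScheme U) := ⟨fun x => by
      obtain ⟨z, hz⟩ := σ.surjective x.1
      exact hne ⟨⟨z, show σ z ∈ U from hz ▸ x.2⟩⟩⟩
    infer_instance
  haveI : IsDomain Γ(Z, U') := IsIntegral.component_integral U'
  have hU' : IsAffineOpen U' := hU.preimage σ
  have hsF : IsAffineOpen (s ⁻¹ᵁ V) := hV.preimage s
  have e : U' ≤ w ⁻¹ᵁ (s ⁻¹ᵁ V) := by
    show σ ⁻¹ᵁ (q ⁻¹ᵁ V) ≤ (w ≫ s) ⁻¹ᵁ V
    rw [hw]
    exact le_rfl
  let τ := σ.app U
  let β := w.appLE (s ⁻¹ᵁ V) U' e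
  obtain ⟨α, rfl⟩ := Spec.map_surjective a
  have hα : ε ≫ α = q.app V := Spec.map_injective (by rw [Spec.map_comp, ha])
  have hcomm : s.app V ≫ β = q.app V ≫ τ := by
    apply Spec.map_injective
    rw [← cancel_mono hV.fromSpec, Spec.map_comp, Spec.map_comp, Category.assoc, Category.assoc]
    simp only [β, τ, Scheme.Hom.app_eq_appLE]
    rw [hV.SpecMap_appLE_fromSpec s hsF, hV.SpecMap_appLE_fromSpec q hU,
      hsF.SpecMap_appLE_fromSpec_assoc w hU', hU.SpecMap_appLE_fromSpec_assoc σ hU', hw]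
  have hrange := hε Γ(G, U) Γ(Z, U') τ.hom α.hom β.hom (by
    rw [← CommRingCat.hom_comp, hcomm, CommRingCat.hom_comp, ← hα, CommRingCat.hom_comp])
  haveI : IsSchemeTheoreticallyDominant σ := .of_isDominant σ
  have hτi : Function.Injective τ.hom := σ.app_injective U
  -- the section
  let e' := RingEquiv.ofBijective τ.hom.rangeRestrict
    ⟨fun x y h => hτi congr(($h : τ.hom.range).1), τ.hom.rangeRestrict_surjective⟩
  let β' : Γ(F', s ⁻¹ᵁ V) ⟶ Γ(G, U) :=
    CommRingCat.ofHom (e'.symm.toRingHom.comp (β.hom.codRestrict τ.hom.range hrange))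
  have hβ' : β' ≫ τ = β := CommRingCat.hom_ext (RingHom.ext fun x =>
    congr(($(e'.apply_symm_apply (⟨β x, hrange x⟩ : τ.hom.range)) : Γ(Z, U'))))
  have hq : s.app V ≫ β' = q.app V := by
    have : (s.app V ≫ β') ≫ τ = q.app V ≫ τ := by rw [Category.assoc, hβ', hcomm]
    exact CommRingCat.hom_ext (RingHom.ext fun x => hτi (congr($(this).hom x)))
  let ψ : (U : Scheme.{u}) ⟶ F' := hU.isoSpec.hom ≫ Spec.map β' ≫ hsF.fromSpec
  have hψ : ψ ≫ s = U.ι ≫ q := by
    simp only [ψ, Category.assoc]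
    rw [← hV.SpecMap_appLE_fromSpec s hsF le_rfl, ← Scheme.Hom.app_eq_appLE, ← Spec.map_comp_assoc, hq,
      Scheme.Hom.app_eq_appLE, hV.SpecMap_appLE_fromSpec q hU le_rfl, ← hU.isoSpec_inv_ι]
    simp [U]
  have hψσ : (σ ∣_ U) ≫ ψ = U'.ι ≫ w := by
    rw [← cancel_epi hU'.isoSpec.inv]
    have h1 : hU'.isoSpec.inv ≫ (σ ∣_ U) ≫ hU.isoSpec.hom = Spec.map τ := by
      rw [← cancel_mono hU.fromSpec, ← hU.isoSpec_inv_ι]
      simp only [Category.assoc, Iso.hom_inv_id_assoc, τ, Scheme.Hom.app_eq_appLE]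
      rw [morphismRestrict_ι, hU.isoSpec_inv_ι, hU.SpecMap_appLE_fromSpec σ hU', ← hU'.isoSpec_inv_ι]
      simp [U']
    simp only [ψ]
    rw [reassoc_of% h1, ← Spec.map_comp_assoc, hβ', hsF.SpecMap_appLE_fromSpec w hU', ← hU'.isoSpec_inv_ι,
      Category.assoc]
  have hfac : (σ ∣_ U) ≫ pullback.lift ψ U.ι hψ = U'.ι ≫ pullback.lift w σ hw := by
    apply pullback.hom_ext
    · simp only [Category.assoc, pullback.lift_fst, hψσ]
    · simp only [Category.assoc, pullback.lift_snd, morphismRestrict_ι]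
      rfl
  haveI : IsImmersion ((σ ∣_ U) ≫ pullback.lift ψ U.ι hψ) := by rw [hfac]; infer_instance
  haveI : IsImmersion (σ ∣_ U) := .of_comp _ (pullback.lift ψ U.ι hψ)
  haveI : Surjective (σ ∣_ U) :=
    MorphismProperty.of_isPullback (isPullback_morphismRestrict σ U).flip ‹Surjective σ›
  haveI : IsClosedImmersion (σ ∣_ U) := by
    rw [IsClosedImmersion.iff_isPreimmersion]
    exact ⟨inferInstance, by rw [(σ ∣_ U).surjective.range_eq]; exact isClosed_univ⟩
  exact isIso_of_isClosedImmersion_of_surjective _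

end Groth.Agent.Alter18360
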